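import Cfsg.Agent.Lib.OmegaSevenThree.Check

/-!
Certified rows of the table.
-/

set_option autoImplicit false
set_option maxRecDepth 100000

namespace CfsgLib.OmegaSevenThree

theorem block18 : blockOk 18 words18 = true := by decide +kernel

theorem block19 : blockOk 19 words19 = true := by decide +kernel

theorem block20 : blockOk 20 words20 = true := by decide +kernel

end CfsgLib.OmegaSevenThree
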